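import Mathlib

/-!
# Koszul chains as alternating maps
-/

namespace KoszulLinSyz1

open Finset Function

universe u v

variable {S : Type u} [CommRing S] {n a : ℕ} {N : Type v} [AddCommGroup N] [Module S N]
  {N' : Type*} [AddCommGroup N'] [Module S N']

/-- Chains of degree `a`. -/
abbrev Ch (S : Type u) [CommRing S] (n a : ℕ) (N : Type v) [AddCommGroup N] [Module S N] :=
  (Fin n → S) [⋀^Fin a]→ₗ[S] N

variable (S) in
/-- A basis vector. -/
def e (v : Fin n) : Fin n → S := Pi.single v 1

/-- The value at a tuple of basis vectors. -/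
def ev (w : Ch S n a N) (c : Fin a → Fin n) : N := w fun i => e S (c i)

theorem ev_add (w w' : Ch S n a N) (c : Fin a → Fin n) : ev (w + w') c = ev w c + ev w' c := rfl

theorem ev_sub (w w' : Ch S n a N) (c : Fin a → Fin n) : ev (w - w') c = ev w c - ev w' c := rfl

theorem ev_smul (r : S) (w : Ch S n a N) (c : Fin a → Fin n) : ev (r • w) c = r • ev w c := rfl

theorem ev_zero (c : Fin a → Fin n) : ev (0 : Ch S n a N) c = 0 := rfl

theorem ev_sum {ι : Type*} (s : Finset ι) (w : ι → Ch S n a N) (c : Fin a → Fin n) :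
    ev (∑ i ∈ s, w i) c = ∑ i ∈ s, ev (w i) c := by
  classical
  induction s using Finset.induction_on with
  | empty => simp [ev_zero]
  | insert i s hi ih => rw [Finset.sum_insert hi, Finset.sum_insert hi, ev_add, ih]

theorem ext_ev {w w' : Ch S n a N} (h : ∀ c, ev w c = ev w' c) : w = w' :=
  (Pi.basisFun S (Fin n)).ext_alternating fun c _ => by
    have hb : (fun i => Pi.basisFun S (Fin n) (c i)) = fun i => e S (c i) :=
      funext fun i => Pi.basisFun_apply S (Fin n) (c i)
    rw [hb]
    exact h c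

theorem ev_eq_zero_of_not_injective (w : Ch S n a N) {c : Fin a → Fin n} (hc : ¬ Injective c) :
    ev w c = 0 :=
  w.map_eq_zero_of_not_injective _ fun h => hc fun _ _ hij => h (congrArg (e S) hij)

theorem ev_perm (w : Ch S n a N) (c : Fin a → Fin n) (σ : Equiv.Perm (Fin a)) :
    ev w (c ∘ σ) = Equiv.Perm.sign σ • ev w c :=
  w.map_perm (fun i => e S (c i)) σ

theorem exists_sorted {c : Fin a → Fin n} (hc : Injective c) :
    ∃ (f : Fin a → Fin n) (σ : Equiv.Perm (Fin a)), StrictMono f ∧ f ∘ σ = c := by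
  refine ⟨c ∘ Tuple.sort c, (Tuple.sort c).symm, (Tuple.monotone_sort c).strictMono_of_injective
    (hc.comp (Tuple.sort c).injective), ?_⟩
  funext i
  simp

theorem exists_ev_eq (g : (Fin a → Fin n) → N) :
    ∃ w : Ch S n a N, ∀ f, StrictMono f → ev w f = g f := by
  refine ⟨exteriorPower.alternatingMapLinearEquiv.symm
    (((Pi.basisFun S (Fin n)).exteriorPower a).constr S fun s =>
      g (Set.powersetCard.ofFinEmbEquiv.symm s)), fun f hf => ?_⟩
  let emb : Fin a ↪o Fin n := OrderEmbedding.ofStrictMono f hf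
  have h1 := ((Pi.basisFun S (Fin n)).exteriorPower a).constr_basis S
    (fun s => g (Set.powersetCard.ofFinEmbEquiv.symm s)) (Set.powersetCard.ofFinEmbEquiv emb)
  rw [exteriorPower.basis_apply, exteriorPower.ιMulti_family, Equiv.symm_apply_apply] at h1
  rw [ev, exteriorPower.alternatingMapLinearEquiv_symm_apply]
  refine (congrArg _ (congrArg (exteriorPower.ιMulti S a) (funext fun i => ?_))).trans h1
  exact (Pi.basisFun_apply S (Fin n) (f i)).symm

theorem ext_sorted {w w' : Ch S n a N} (h : ∀ f, StrictMono f → ev w f = ev w' f) : w = w' := by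
  refine ext_ev fun c => ?_
  by_cases hc : Injective c
  · obtain ⟨f, σ, hf, rfl⟩ := exists_sorted hc
    rw [ev_perm, ev_perm, h f hf]
  · rw [ev_eq_zero_of_not_injective w hc, ev_eq_zero_of_not_injective w' hc]

/-- Applying an additive map to the values. -/
theorem exists_mapVal (P : N →+ N') (w : Ch S n a N) : ∃ w' : Ch S n a N', ∀ c, ev w' c = P (ev w c) := by
  obtain ⟨w', hw'⟩ := exists_ev_eq (S := S) (n := n) (a := a) fun f => P (ev w f)
  refine ⟨w', fun c => ?_⟩
  by_cases hc : Injective c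
  · obtain ⟨f, σ, hf, rfl⟩ := exists_sorted hc
    rw [ev_perm, ev_perm, hw' f hf, Units.smul_def, Units.smul_def, map_zsmul]
  · rw [ev_eq_zero_of_not_injective w hc, ev_eq_zero_of_not_injective w' hc, map_zero]

/-- Lifting the values along a surjective linear map. -/
theorem exists_lift (f : N →ₗ[S] N') (z : Ch S n a N') (hz : ∀ c, ev z c ∈ LinearMap.range f) :
    ∃ w : Ch S n a N, f.compAlternatingMap w = z := by
  choose g hg using hz
  obtain ⟨w, hw⟩ := exists_ev_eq (S := S) g
  refine ⟨w, ext_sorted fun s hs => ?_⟩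
  show f (ev w s) = ev z s
  rw [hw s hs, hg]

/-- Interior product with a vector. -/
def ι (x : Fin n → S) (w : Ch S n (a + 1) N) : Ch S n a N := w.curryLeft x

theorem ι_apply (x : Fin n → S) (w : Ch S n (a + 1) N) (v : Fin a → Fin n → S) :
    ι x w v = w (Fin.cons x v) := rfl

theorem ev_ι (x : Fin n → S) (w : Ch S n (a + 1) N) (c : Fin a → Fin n) :
    ev (ι x w) c = ∑ v, x v • ev w (Fin.cons v c) := by
  have hx : x = ∑ v, x v • e S v := pi_eq_sum_univ' x
  have h : ι x w = ∑ v, x v • ι (e S v) w := by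
    show w.curryLeft x = ∑ v, x v • w.curryLeft (e S v)
    conv_lhs => rw [hx]
    rw [map_sum]
    exact Finset.sum_congr rfl fun v _ => map_smul _ _ _
  rw [h, ev_sum]
  refine Finset.sum_congr rfl fun v _ => ?_
  rw [ev_smul]
  congr 1
  show w (Fin.cons (e S v) fun i => e S (c i)) = w fun i => e S ((Fin.cons v c : Fin (a + 1) → Fin n) i)
  congr 1
  funext i
  refine Fin.cases ?_ ?_ i <;> simp

theorem ev_ι_single (m : Fin n) (w : Ch S n (a + 1) N) (c : Fin a → Fin n) :
    ev (ι (e S m) w) c = ev w (Fin.cons m c) := by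
  rw [ev_ι, Finset.sum_eq_single m (fun v _ hv => by simp [e, hv]) (by simp)]
  simp [e]

theorem ι_add (x : Fin n → S) (w w' : Ch S n (a + 1) N) : ι x (w + w') = ι x w + ι x w' := rfl

theorem ι_sub (x : Fin n → S) (w w' : Ch S n (a + 1) N) : ι x (w - w') = ι x w - ι x w' := rfl

theorem ι_smul (x : Fin n → S) (r : S) (w : Ch S n (a + 1) N) : ι x (r • w) = r • ι x w := rfl

theorem ι_zero (x : Fin n → S) : ι x (0 : Ch S n (a + 1) N) = 0 := rfl

theorem ι_sum (x : Fin n → S) {κ : Type*} (s : Finset κ) (w : κ → Ch S n (a + 1) N) :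
    ι x (∑ i ∈ s, w i) = ∑ i ∈ s, ι x (w i) := by
  classical
  induction s using Finset.induction_on with
  | empty => simp [ι_zero]
  | insert i s hi ih => rw [Finset.sum_insert hi, Finset.sum_insert hi, ι_add, ih]

theorem ι_ι (x : Fin n → S) (w : Ch S n (a + 2) N) : ι x (ι x w) = 0 :=
  AlternatingMap.curryLeft_same w x

theorem ι_swap (x y : Fin n → S) (w : Ch S n (a + 2) N) : ι x (ι y w) = -ι y (ι x w) := by
  have h := ι_ι (x + y) w
  have h' : ∀ (b : ℕ) (w : Ch S n (b + 1) N), ι (x + y) w = ι x w + ι y w := fun _ w => map_add w.curryLeft x y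
  rw [h' (a + 1), h', ι_add, ι_add, ι_ι, ι_ι, zero_add, add_zero] at h
  exact eq_neg_of_add_eq_zero_left h

theorem ι_comp (f : N →ₗ[S] N') (x : Fin n → S) (w : Ch S n (a + 1) N) :
    ι x (f.compAlternatingMap w) = f.compAlternatingMap (ι x w) := rfl

/-- Exterior product with a dual basis vector. -/
def wed (m : Fin n) (y : Ch S n a N) : Ch S n (a + 1) N :=
  AlternatingMap.alternatizeUncurryFin
    ((LinearMap.proj m : (Fin n → S) →ₗ[S] S).smulRight y)

theorem wed_apply (m : Fin n) (y : Ch S n a N) (v : Fin (a + 1) → Fin n → S) :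
    wed m y v = ∑ p : Fin (a + 1), (-1) ^ (p : ℕ) • (v p m • y (p.removeNth v)) := by
  rw [wed, AlternatingMap.alternatizeUncurryFin_apply]
  rfl

theorem ev_wed (m : Fin n) (y : Ch S n a N) (c : Fin (a + 1) → Fin n) :
    ev (wed m y) c = ∑ p : Fin (a + 1), if c p = m then (-1) ^ (p : ℕ) • ev y (p.removeNth c) else 0 := by
  rw [ev, wed_apply]
  refine Finset.sum_congr rfl fun p _ => ?_
  split_ifs with h
  · subst h
    rw [e, Pi.single_eq_same, one_smul]
    rfl
  · rw [e, Pi.single_eq_of_ne (Ne.symm h), zero_smul, smul_zero]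

theorem wed_zero (m : Fin n) : wed m (0 : Ch S n a N) = 0 := ext_ev fun c => by
  rw [ev_wed, ev_zero]
  exact Finset.sum_eq_zero fun p _ => by split_ifs <;> simp [ev_zero]

theorem wed_neg (m : Fin n) (y : Ch S n a N) : wed m (-y) = -wed m y := ext_ev fun c => by
  show _ = -(ev (wed m y) c)
  rw [ev_wed, ev_wed, ← Finset.sum_neg_distrib]
  refine Finset.sum_congr rfl fun p _ => ?_
  split_ifs
  · exact smul_neg _ _
  · simp

/-- The Cartan identity. -/
theorem ι_wed (x : Fin n → S) (m : Fin n) (y : Ch S n (a + 1) N) :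
    ι x (wed m y) = x m • y - wed m (ι x y) := by
  ext v
  have hrem : ∀ p : Fin (a + 1), (p.succ).removeNth (Fin.cons (α := fun _ => Fin n → S) x v) =
      Fin.cons (α := fun _ => Fin n → S) x (p.removeNth v) := by
    intro p
    funext i
    refine Fin.cases ?_ ?_ i
    · simp [Fin.removeNth_apply]
    · intro i; simp [Fin.removeNth_apply, Fin.succ_succAbove_succ]
  rw [ι_apply, AlternatingMap.sub_apply, AlternatingMap.smul_apply, wed_apply, wed_apply,
    Fin.sum_univ_succ, sub_eq_add_neg, ← Finset.sum_neg_distrib]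
  congr 1
  · simp
  · refine Finset.sum_congr rfl fun p _ => ?_
    rw [hrem, Fin.cons_succ, ι_apply, Fin.val_succ, pow_succ, mul_neg_one, neg_smul]

theorem ι_wed_zero (x : Fin n → S) (m : Fin n) (y : Ch S n 0 N) : ι x (wed m y) = x m • y := by
  ext v
  rw [ι_apply, wed_apply, Fin.sum_univ_one, AlternatingMap.smul_apply]
  simp only [Fin.cons_zero, Fin.val_zero, pow_zero, one_smul]
  congr 2
  all_goals (funext i; exact i.elim0)

end KoszulLinSyz1
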