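import Mathlib
import Groth.Agent.Lib.KoszulLinSyz1.Chains

/-!
# The Koszul complex of a polynomial ring is acyclic in positive degrees
-/

namespace KoszulLinSyz1

open MvPolynomial Function

universe u

variable {k : Type u} [CommRing k] {n : ℕ}

/-- The vector of the variables. -/
noncomputable def xs : Fin n → MvPolynomial (Fin n) k := fun v => X v

/-- Division by a variable, as an additive map. -/
noncomputable def divX (m : Fin n) : MvPolynomial (Fin n) k →+ MvPolynomial (Fin n) k where
  toFun φ := φ.divMonomial (Finsupp.single m 1)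
  map_zero' := zero_divMonomial _
  map_add' _ _ := add_divMonomial _ _ _

theorem coeff_divX (m : Fin n) (φ : MvPolynomial (Fin n) k) (d : Fin n →₀ ℕ) :
    coeff d (divX m φ) = coeff (Finsupp.single m 1 + d) φ :=
  coeff_divMonomial _ _ _

theorem divX_X_mul_self (m : Fin n) (φ : MvPolynomial (Fin n) k) : divX m (X m * φ) = φ :=
  X_mul_divMonomial m φ

theorem divX_X_mul {m v : Fin n} (h : v ≠ m) (φ : MvPolynomial (Fin n) k) :
    divX m (X v * φ) = X v * divX m φ := by
  ext d
  rw [coeff_divX, coeff_X_mul', coeff_X_mul']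
  simp only [Finsupp.mem_support_iff, Finsupp.add_apply, Finsupp.single_eq_of_ne h, zero_add]
  split_ifs with hd
  · rw [coeff_divX]
    congr 1
    ext i
    simp only [Finsupp.tsub_apply, Finsupp.add_apply]
    by_cases hi : i = v
    · subst hi; simp [Finsupp.single_eq_of_ne h]
    · simp [Finsupp.single_eq_of_ne hi]
  · rfl

theorem divX_comm (m i : Fin n) (φ : MvPolynomial (Fin n) k) : divX i (divX m φ) = divX m (divX i φ) := by
  ext d
  rw [coeff_divX, coeff_divX, coeff_divX, coeff_divX, ← add_assoc, ← add_assoc,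
    add_comm (Finsupp.single m 1)]

variable {a : ℕ}

theorem wed_vals (P : MvPolynomial (Fin n) k →+ MvPolynomial (Fin n) k) (m : Fin n)
    {y y' : Ch (MvPolynomial (Fin n) k) n a (MvPolynomial (Fin n) k)} (h : ∀ c, ev y' c = P (ev y c))
    (c : Fin (a + 1) → Fin n) : P (ev (wed m y) c) = ev (wed m y') c := by
  rw [ev_wed, ev_wed, map_sum]
  refine Finset.sum_congr rfl fun p _ => ?_
  split_ifs
  · rw [map_zsmul, h]
  · exact map_zero P

theorem step (m : Fin n) (z : Ch (MvPolynomial (Fin n) k) n (a + 1) (MvPolynomial (Fin n) k))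
    (hz : ι xs z = 0) (hi : ∀ i, m < i → (∀ c, divX i (ev z c) = 0) ∧ ι (e _ i) z = 0) :
    ∃ w, ι xs (z - ι xs w) = 0 ∧ ∀ i, m ≤ i →
      (∀ c, divX i (ev (z - ι xs w) c) = 0) ∧ ι (e _ i) (z - ι xs w) = 0 := by
  obtain ⟨q, hq⟩ := exists_mapVal (S := MvPolynomial (Fin n) k) (divX m) z
  set E := e (MvPolynomial (Fin n) k) m with hE
  have hxm : (xs m : MvPolynomial (Fin n) k) = X m := rfl
  have hq1 : ι xs q = -ι E z + (X m : MvPolynomial (Fin n) k) • ι E q := by
    refine ext_ev fun c => ?_
    have hc : ∀ v, v ≠ m → (xs v : MvPolynomial (Fin n) k) • ev q (Fin.cons v c) =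
        divX m (xs v • ev z (Fin.cons v c)) := fun v hv => by
      rw [hq, smul_eq_mul, smul_eq_mul, xs, divX_X_mul hv]
    have h0 : divX m (ev (ι xs z) c) = 0 := by rw [hz, ev_zero, map_zero]
    rw [ev_ι, map_sum, ← Finset.add_sum_erase _ _ (Finset.mem_univ m), hxm, smul_eq_mul,
      divX_X_mul_self] at h0
    rw [ev_ι, ← Finset.add_sum_erase _ _ (Finset.mem_univ m),
      Finset.sum_congr rfl fun v hv => hc v (Finset.ne_of_mem_erase hv), hxm, hE]
    show _ = -(ev (ι _ z) c) + ev (_ • ι _ q) c
    rw [ev_smul, ev_ι_single, ev_ι_single]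
    linear_combination h0
  have hιq : ∀ c, ev (ι E q) c = divX m (ev (ι E z) c) := fun c => by
    rw [hE, ev_ι_single, ev_ι_single, hq]
  have hzw : z - ι xs (wed m q) = z - (X m : MvPolynomial (Fin n) k) • q + wed m (ι xs q) := by
    rw [ι_wed, hxm]; abel
  refine ⟨wed m q, by rw [ι_sub, hz, ι_ι, sub_zero], fun i hmi => ?_⟩
  rw [hzw]
  have hcase : (∀ c, divX i (ev q c) = if i = m then divX m (ev q c) else 0) := by
    intro c
    split_ifs with h
    · rw [h]
    · rw [hq, divX_comm, (hi i (lt_of_le_of_ne hmi (Ne.symm h))).1, map_zero]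
  refine ⟨fun c => ?_, ?_⟩
  · rw [ev_add, ev_sub, ev_smul, smul_eq_mul, map_add, map_sub,
      wed_vals (divX i) m (y := ι xs q) (y' := 0) (fun c => ?_), wed_zero, ev_zero, add_zero]
    · by_cases h : i = m
      · rw [h, divX_X_mul_self, hq, sub_self]
      · rw [divX_X_mul (Ne.symm h), hcase, if_neg h, mul_zero, sub_zero,
          (hi i (lt_of_le_of_ne hmi (Ne.symm h))).1]
    · rw [ev_zero, hq1]
      show 0 = divX i (-(ev (ι E z) c) + ev (_ • ι E q) c)
      rw [ev_smul, smul_eq_mul, map_add, map_neg]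
      by_cases h : i = m
      · rw [h, divX_X_mul_self, hιq, neg_add_cancel]
      · have h1 := (hi i (lt_of_le_of_ne hmi (Ne.symm h))).1
        rw [divX_X_mul (Ne.symm h), hιq, divX_comm]
        rw [show ev (ι E z) c = ev z (Fin.cons m c) from ev_ι_single m z c, h1, map_zero, mul_zero,
          neg_zero, add_zero]
  · have key : ι (e _ i) (wed m (ι xs q)) = (e (MvPolynomial (Fin n) k) i m) • ι xs q := by
      cases a with
      | zero => exact ι_wed_zero _ m _
      | succ a =>
        rw [ι_wed]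
        suffices h0 : ι (e _ i) (ι xs q) = 0 by rw [h0, wed_zero, sub_zero]
        by_cases h : i = m
        · subst h
          rw [← hE, hq1, ι_add, ι_smul, ι_ι, smul_zero, add_zero,
            show -ι E z = (-1 : MvPolynomial (Fin n) k) • ι E z from (neg_one_smul _ _).symm, ι_smul, ι_ι, smul_zero]
        · obtain ⟨-, h2⟩ := hi i (lt_of_le_of_ne hmi (Ne.symm h))
          rw [ι_swap, show ι (e _ i) q = 0 from ext_ev fun c => by
            have := congrArg (fun w => ev w c) h2
            simp only [ev_ι_single, ev_zero] at this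
            rw [ev_ι_single, hq, this, map_zero, ev_zero], ι_zero, neg_zero]
    rw [ι_add, ι_sub, ι_smul, key]
    by_cases h : i = m
    · subst h
      rw [hq1]
      have : (e (MvPolynomial (Fin n) k) i i) = 1 := by simp [e]
      rw [this, one_smul, ← hE]
      abel
    · obtain ⟨h1, h2⟩ := hi i (lt_of_le_of_ne hmi (Ne.symm h))
      have hiq : ι (e _ i) q = 0 := ext_ev fun c => by
        have := congrArg (fun w => ev w c) h2
        simp only [ev_ι_single, ev_zero] at this
        rw [ev_ι_single, hq, this, map_zero, ev_zero]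
      have : (e (MvPolynomial (Fin n) k) i m) = 0 := by simp [e, Ne.symm h]
      rw [this, h2, hiq, zero_smul, smul_zero, sub_zero, add_zero]

theorem exact_self (z : Ch (MvPolynomial (Fin n) k) n (a + 1) (MvPolynomial (Fin n) k))
    (hz : ι xs z = 0) : ∃ w, ι xs w = z := by
  suffices H : ∀ j, j ≤ n → ∃ w, ι xs (z - ι xs w) = 0 ∧ ∀ i : Fin n, n - j ≤ (i : ℕ) →
      (∀ c, divX i (ev (z - ι xs w) c) = 0) ∧ ι (e _ i) (z - ι xs w) = 0 by
    obtain ⟨w, -, hw⟩ := H n le_rfl
    refine ⟨w, (sub_eq_zero.1 (ext_ev fun c => ?_)).symm⟩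
    have := congrArg (fun y => ev y (Fin.tail c)) (hw (c 0) (by omega)).2
    simp only [ev_ι_single, Fin.cons_self_tail, ev_zero] at this
    rw [this, ev_zero]
  intro j
  induction j with
  | zero =>
    intro _
    refine ⟨0, by rw [ι_zero, sub_zero, hz], fun i hi => ?_⟩
    have := i.2
    omega
  | succ j ih =>
    intro hj
    obtain ⟨w, hw0, hw⟩ := ih (by omega)
    obtain ⟨w', h0, h⟩ := step ⟨n - (j + 1), by omega⟩ (z - ι xs w) hw0
      (fun i hi => hw i (by have : n - (j + 1) < (i : ℕ) := hi; omega))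
    refine ⟨w + w', ?_, fun i hi => ?_⟩
    · rw [ι_add, ← sub_sub]; exact h0
    · rw [ι_add, ← sub_sub]
      exact h i hi

theorem exact_free {r : ℕ} (z : Ch (MvPolynomial (Fin n) k) n (a + 1) (Fin r → MvPolynomial (Fin n) k))
    (hz : ι xs z = 0) : ∃ w, ι xs w = z := by
  classical
  have hb : ∀ b : Fin r, ∃ w, ι xs w = (LinearMap.proj b).compAlternatingMap z := fun b =>
    exact_self _ (by rw [ι_comp, hz]; rfl)
  choose w hw using hb
  refine ⟨∑ b, (LinearMap.single (MvPolynomial (Fin n) k) (fun _ : Fin r => MvPolynomial (Fin n) k) b).compAlternatingMap (w b), ?_⟩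
  rw [ι_sum]
  refine ext_ev fun c => ?_
  rw [ev_sum]
  simp only [ι_comp, hw]
  funext b
  rw [Finset.sum_apply, Finset.sum_eq_single b]
  · show (LinearMap.single (MvPolynomial (Fin n) k) (fun _ : Fin r => MvPolynomial (Fin n) k) b (ev z c b)) b = ev z c b
    simp
  · intro b' _ hne
    show (LinearMap.single (MvPolynomial (Fin n) k) (fun _ : Fin r => MvPolynomial (Fin n) k) b' (ev z c b')) b = 0
    simp [Ne.symm hne]
  · simp

end KoszulLinSyz1
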