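import Mathlib
import Groth.Agent.Lib.KoszulLinSyz1.Exact
import Groth.Agent.Lib.GrSyz.Basic

/-!
# Iterated linear syzygy modules and Koszul boundaries
-/

namespace KoszulLinSyz1

open MvPolynomial GrothLib

universe u

variable {k : Type u} [Field k] {n : ℕ}

local notation "Pol" => MvPolynomial (Fin n) k

theorem exists_sum_X {t : ℤ} (ht : t ≠ 0) {φ : Pol} (hφ : φ ∈ _root_.GrSyz.stdGr k (Fin n) t) :
    ∃ q : Fin n → Pol, φ = ∑ v, X v * q v ∧ ∀ v, q v ∈ _root_.GrSyz.stdGr k (Fin n) (t - 1) := by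
  have h0 : φ ∈ Ideal.span (Set.range (X : Fin n → Pol)) := by
    have h := GrothLib.GrSyz.constantCoeff_of_mem ht hφ
    rw [show Ideal.span (Set.range (X : Fin n → Pol)) = MvPolynomial.idealOfVars (Fin n) k from rfl,
      ← pow_one (MvPolynomial.idealOfVars (Fin n) k), MvPolynomial.pow_idealOfVars_eq_span,
      ← MvPolynomial.pow_idealOfVars_eq_span, MvPolynomial.mem_pow_idealOfVars_iff]
    intro d hd
    rw [Nat.one_le_iff_ne_zero]
    intro hd0
    rw [Finsupp.degree_eq_zero_iff] at hd0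
    rw [MvPolynomial.mem_support_iff] at hd
    exact hd (by rw [hd0]; exact h)
  obtain ⟨q, hq⟩ := (Ideal.mem_span_range_iff_exists_fun).1 h0
  refine ⟨fun v => GrothLib.GrSyz.pr (t - 1) (q v), ?_, fun v => GrothLib.GrSyz.pr_mem _ _⟩
  conv_lhs => rw [← GrothLib.GrSyz.pr_of_mem hφ, ← hq]
  rw [map_sum]
  refine Finset.sum_congr rfl fun v _ => ?_
  rw [mul_comm, GrothLib.GrSyz.pr_mul (show (X v : Pol) ∈ _root_.GrSyz.stdGr k (Fin n) 1 from
    MvPolynomial.isWeightedHomogeneous_X _ _ v)]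

variable {M : Type u} [AddCommGroup M] [Module k M] [Module (MvPolynomial (Fin n) k) M]
  [IsScalarTower k (MvPolynomial (Fin n) k) M]
  (ℳ : ℤ → Submodule k M) [DirectSum.Decomposition ℳ]
  [SetLike.GradedSMul (_root_.GrSyz.stdGr k (Fin n)) ℳ]

/-- The iterated module of linear syzygies. -/
def T (i : ℕ) : Submodule Pol ((Fin i → Fin n) → M) where
  carrier := {m | ∀ (s : Fin i) (c : Fin i → Fin n), ∑ v, (X v : Pol) • m (Function.update c s v) = 0}
  zero_mem' := fun s c => by simp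
  add_mem' {m m'} h h' := fun s c => by
    simp only [Pi.add_apply, smul_add, Finset.sum_add_distrib, h s c, h' s c, add_zero]
  smul_mem' r m h := fun s c => by
    simp only [Pi.smul_apply, smul_comm (X _ : Pol) r, ← Finset.smul_sum, h s c, smul_zero]

/-- Generation of the syzygy modules in low degrees. -/
def Gen (p : ℕ) (d : ℤ) : Prop :=
  ∀ i : ℕ, i ≤ p → ∀ m ∈ (T (M := M) (n := n) (k := k) i),
    m ∈ Submodule.span Pol {m' | m' ∈ T (M := M) (n := n) (k := k) i ∧ ∃ d' : ℤ, d' ≤ d - 1 ∧ ∀ c, m' c ∈ ℳ d'}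

variable {ℳ}

theorem mc_mem (g : ℤ) (x : M) : GrothLib.GrSyz.mc ℳ g x ∈ ℳ g := (DirectSum.decompose ℳ x g).2

theorem mc_smul_mem {g : ℤ} {a : Pol} {d : ℤ} {y : M} (hy : y ∈ ℳ d) :
    GrothLib.GrSyz.mc ℳ g (a • y) = GrothLib.GrSyz.pr (g - d) a • y :=
  GrothLib.GrSyz.mc_smul ℳ a hy

theorem lift {p : ℕ} {d : ℤ} (hgen : Gen (n := n) ℳ p d) {i : ℕ} (hi : i ≤ p) {m : (Fin i → Fin n) → M}
    (hm : m ∈ T (M := M) (n := n) (k := k) i) (hd : ∀ c, m c ∈ ℳ d) :
    ∃ mv : Fin n → (Fin i → Fin n) → M, m = ∑ v, (X v : Pol) • mv v ∧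
      ∀ v, mv v ∈ T (M := M) (n := n) (k := k) i ∧ ∀ c, mv v c ∈ ℳ (d - 1) := by
  classical
  obtain ⟨s, hs, hsum⟩ := Submodule.mem_span_set.1 (hgen i hi m hm)
  have hd' : ∀ g : (Fin i → Fin n) → M, ∃ d' : ℤ, g ∈ s.support → d' ≤ d - 1 ∧ ∀ c, g c ∈ ℳ d' := by
    intro g
    by_cases hg : g ∈ s.support
    · obtain ⟨-, d', h⟩ := hs hg; exact ⟨d', fun _ => h⟩
    · exact ⟨0, fun h => absurd h hg⟩
  choose dg hdg using hd'
  have hq : ∀ g : (Fin i → Fin n) → M, ∃ q : Fin n → Pol, g ∈ s.support →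
      GrothLib.GrSyz.pr (d - dg g) (s g) = ∑ v, X v * q v ∧
        ∀ v, q v ∈ _root_.GrSyz.stdGr k (Fin n) (d - dg g - 1) := by
    intro g
    by_cases hg : g ∈ s.support
    · obtain ⟨q, h⟩ := exists_sum_X (t := d - dg g) (by have := (hdg g hg).1; omega)
        (GrothLib.GrSyz.pr_mem (d - dg g) (s g))
      exact ⟨q, fun _ => h⟩
    · exact ⟨0, fun h => absurd h hg⟩
  choose q hq using hq
  refine ⟨fun v => ∑ g ∈ s.support, q g v • g, ?_, fun v =>
    ⟨Submodule.sum_mem _ fun g hg => Submodule.smul_mem _ _ (hs hg).1, fun c => ?_⟩⟩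
  · funext c
    rw [← GrothLib.GrSyz.mc_of_mem ℳ (hd c), ← hsum]
    simp only [Finsupp.sum, Finset.sum_apply, Pi.smul_apply, map_sum, Finset.smul_sum]
    rw [Finset.sum_comm (s := (Finset.univ : Finset (Fin n)))]
    refine Finset.sum_congr rfl fun g hg => ?_
    rw [mc_smul_mem ((hdg g hg).2 c), (hq g hg).1, Finset.sum_smul]
    exact Finset.sum_congr rfl fun v _ => mul_smul _ _ _
  · simp only [Finset.sum_apply, Pi.smul_apply]
    refine Submodule.sum_mem _ fun g hg => ?_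
    have := SetLike.GradedSMul.smul_mem (A := _root_.GrSyz.stdGr k (Fin n)) (B := ℳ) ((hq g hg).2 v) ((hdg g hg).2 c)
    rw [show (d - dg g - 1) +ᵥ dg g = d - 1 by rw [vadd_eq_add]; ring] at this
    exact this

theorem T_cons {i : ℕ} {F : Fin n → (Fin i → Fin n) → M} (hF : ∀ v, F v ∈ T (M := M) (n := n) (k := k) i)
    (h0 : ∑ v, (X v : Pol) • F v = 0) :
    (fun c : Fin (i + 1) → Fin n => F (c 0) (Fin.tail c)) ∈ T (M := M) (n := n) (k := k) (i + 1) := by
  intro s c
  refine Fin.cases ?_ (fun s => ?_) s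
  · have := congrFun h0 (Fin.tail c)
    simpa [Finset.sum_apply] using this
  · have := hF (c 0) s (Fin.tail c)
    simpa [Fin.tail_update_succ, Function.update_of_ne (Fin.succ_ne_zero s).symm] using this

theorem T_split {i : ℕ} {F : (Fin (i + 1) → Fin n) → M} (hF : F ∈ T (M := M) (n := n) (k := k) (i + 1)) :
    (∀ v, (fun c : Fin i → Fin n => F (Fin.cons v c)) ∈ T (M := M) (n := n) (k := k) i) ∧
      ∑ v, (X v : Pol) • (fun c : Fin i → Fin n => F (Fin.cons v c)) = 0 := by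
  refine ⟨fun v s c => ?_, ?_⟩
  · have := hF s.succ (Fin.cons v c)
    simpa [← Fin.cons_update] using this
  · funext c
    by_cases hn : n = 0
    · subst hn; simp
    · have := hF 0 (Fin.cons ⟨0, Nat.pos_of_ne_zero hn⟩ c)
      simpa [Fin.update_cons_zero, Finset.sum_apply] using this

/-- Boundaries. -/
theorem exists_boundary {p : ℕ} {d : ℤ} (hgen : Gen (n := n) ℳ p d) : ∀ (a i : ℕ), a + i ≤ p →
    ∀ z : Ch Pol n a ((Fin i → Fin n) → M), (∀ c, ev z c ∈ T (M := M) (n := n) (k := k) i) →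
      (∀ c c', ev z c c' ∈ ℳ d) →
      (∀ a' (h : a = a' + 1), ι xs (h ▸ z : Ch Pol n (a' + 1) ((Fin i → Fin n) → M)) = 0) →
      ∃ u : Ch Pol n (a + 1) ((Fin i → Fin n) → M), (∀ c, ev u c ∈ T (M := M) (n := n) (k := k) i) ∧ ι xs u = z := by
  classical
  intro a
  have hlift : ∀ (a i : ℕ), i ≤ p → ∀ z : Ch Pol n a ((Fin i → Fin n) → M),
      (∀ c, ev z c ∈ T (M := M) (n := n) (k := k) i) → (∀ c c', ev z c c' ∈ ℳ d) →
      ∃ w : Fin n → Ch Pol n a ((Fin i → Fin n) → M), z = ∑ v, (X v : Pol) • w v ∧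
        ∀ v, (∀ c, ev (w v) c ∈ T (M := M) (n := n) (k := k) i) ∧ ∀ c c', ev (w v) c c' ∈ ℳ (d - 1) := by
    intro a i hi z hT hd
    have h := fun c => lift hgen hi (hT c) (hd c)
    choose mv hmv using h
    choose w hw using fun v => exists_ev_eq (S := Pol) (n := n) (a := a) fun c => mv c v
    refine ⟨w, ext_sorted fun f hf => ?_, fun v => ⟨fun c => ?_, fun c c' => ?_⟩⟩
    · rw [ev_sum, (hmv f).1]
      exact Finset.sum_congr rfl fun v _ => by rw [ev_smul, hw v f hf]
    · by_cases hc : Function.Injective c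
      · obtain ⟨f, σ, hf, rfl⟩ := exists_sorted hc
        rw [ev_perm, hw v f hf, Units.smul_def]
        exact zsmul_mem ((hmv f).2 v).1 _
      · rw [ev_eq_zero_of_not_injective _ hc]; exact zero_mem _
    · by_cases hc : Function.Injective c
      · obtain ⟨f, σ, hf, rfl⟩ := exists_sorted hc
        rw [ev_perm, hw v f hf, Units.smul_def, Pi.smul_apply]
        exact zsmul_mem (((hmv f).2 v).2 c') _
      · rw [ev_eq_zero_of_not_injective _ hc]; exact zero_mem _
  have wed_T : ∀ {a i : ℕ} (m : Fin n) (y : Ch Pol n a ((Fin i → Fin n) → M)),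
      (∀ c, ev y c ∈ T (M := M) (n := n) (k := k) i) → ∀ c, ev (wed m y) c ∈ T (M := M) (n := n) (k := k) i := by
    intro a i m y hy c
    rw [ev_wed]
    refine Submodule.sum_mem _ fun q _ => ?_
    split_ifs
    · exact zsmul_mem (hy _) _
    · exact zero_mem _
  induction a with
  | zero =>
    intro i hi z hT hd _
    obtain ⟨w, hz, hw⟩ := hlift 0 i (by omega) z hT hd
    refine ⟨∑ v, wed v (w v), fun c => ?_, ?_⟩
    · rw [ev_sum]; exact Submodule.sum_mem _ fun v _ => wed_T v _ (hw v).1 c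
    · rw [ι_sum, hz]
      exact Finset.sum_congr rfl fun v _ => ι_wed_zero _ v _
  | succ a ih =>
    intro i hi z hT hd hcyc
    have hzc : ι xs z = 0 := hcyc a rfl
    obtain ⟨w, hz, hw⟩ := hlift (a + 1) i (by omega) z hT hd
    let π : Fin n → ((Fin (i + 1) → Fin n) → M) →ₗ[Pol] ((Fin i → Fin n) → M) := fun v =>
      LinearMap.funLeft Pol M fun c => Fin.cons v c
    have hXw : ∀ c, ∑ v, (X v : Pol) • ev (ι xs (w v)) c = 0 := fun c => by
      have := congrArg (fun y => ev y c) hzc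
      simp only [hz, ι_sum, ι_smul, ev_sum, ev_smul, ev_zero] at this
      exact this
    obtain ⟨W, hW⟩ := exists_ev_eq (S := Pol) (n := n) (a := a)
      fun c => (fun c' : Fin (i + 1) → Fin n => ev (ι xs (w (c' 0))) c (Fin.tail c'))
    have hWv : ∀ v, (π v).compAlternatingMap W = ι xs (w v) := fun v => ext_sorted fun f hf => by
      show π v (ev W f) = _
      rw [hW f hf]
      funext c'
      simp [π, LinearMap.funLeft_apply]
    have hWc : ∀ c (c' : Fin (i + 1) → Fin n), ev W c c' = ev (ι xs (w (c' 0))) c (Fin.tail c') := fun c c' => by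
      have := congrFun (congrArg (fun y => ev y c) (hWv (c' 0))) (Fin.tail c')
      rw [← this]
      show _ = ev W c (Fin.cons (c' 0) (Fin.tail c'))
      rw [Fin.cons_self_tail]
    have hιT : ∀ v c, ev (ι xs (w v)) c ∈ T (M := M) (n := n) (k := k) i := fun v c => by
      rw [ev_ι]; exact Submodule.sum_mem _ fun _ _ => Submodule.smul_mem _ _ ((hw v).1 _)
    have hWT : ∀ c, ev W c ∈ T (M := M) (n := n) (k := k) (i + 1) := fun c => by
      have : ev W c = fun c' => ev (ι xs (w (c' 0))) c (Fin.tail c') := funext (hWc c)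
      rw [this]
      exact T_cons (fun v => hιT v c) (hXw c)
    have hWd : ∀ c c', ev W c c' ∈ ℳ d := fun c c' => by
      rw [hWc, ev_ι, Finset.sum_apply]
      refine Submodule.sum_mem _ fun v _ => ?_
      rw [Pi.smul_apply]
      have := SetLike.GradedSMul.smul_mem (A := _root_.GrSyz.stdGr k (Fin n)) (B := ℳ)
        (show (X v : Pol) ∈ _root_.GrSyz.stdGr k (Fin n) 1 from MvPolynomial.isWeightedHomogeneous_X _ _ v)
        ((hw (c' 0)).2 (Fin.cons v c) (Fin.tail c'))
      rw [show (1 : ℤ) +ᵥ (d - 1) = d by simp [vadd_eq_add]] at this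
      exact this
    have hWcyc : ∀ a' (h : a = a' + 1), ι xs (h ▸ W : Ch Pol n (a' + 1) ((Fin (i + 1) → Fin n) → M)) = 0 := by
      rintro a' rfl
      refine ext_ev fun c => funext fun c' => ?_
      have h2 : ι xs ((π (c' 0)).compAlternatingMap W) = 0 := by rw [hWv, ι_ι]
      have := congrFun (congrArg (fun y => ev y c) h2) (Fin.tail c')
      rw [ι_comp] at this
      have e1 : π (c' 0) (ev (ι xs W) c) (Fin.tail c') = ev (ι xs W) c c' :=
        (LinearMap.funLeft_apply Pol M _ _ _).trans (by rw [Fin.cons_self_tail])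
      rw [← e1]
      exact this
    obtain ⟨U, hUT, hU⟩ := ih (i + 1) (by omega) W hWT hWd hWcyc
    let y : Fin n → Ch Pol n (a + 1) ((Fin i → Fin n) → M) := fun v => w v - (π v).compAlternatingMap U
    have hy : ∀ v, ι xs (y v) = 0 := fun v => by
      rw [ι_sub, ι_comp, hU, hWv, sub_self]
    have hzy : z = ∑ v, (X v : Pol) • y v := by
      refine ext_ev fun c => ?_
      have := (T_split (hUT c)).2
      rw [hz, ev_sum, ev_sum]
      simp only [y, ev_smul, ev_sub, smul_sub, Finset.sum_sub_distrib]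
      rw [show ∑ v, (X v : Pol) • ev ((π v).compAlternatingMap U) c = 0 from this, sub_zero]
    refine ⟨∑ v, wed v (y v), fun c => ?_, ?_⟩
    · rw [ev_sum]
      refine Submodule.sum_mem _ fun v _ => wed_T v _ (fun c => ?_) c
      rw [ev_sub]
      exact sub_mem ((hw v).1 c) ((T_split (hUT c)).1 v)
    · rw [ι_sum, hzy]
      refine Finset.sum_congr rfl fun v _ => ?_
      rw [ι_wed, hy, wed_zero, sub_zero]
      rfl

/-- Cycles with values in the piece of degree `d` are boundaries. -/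
theorem boundary_of_cycle {p : ℕ} {d : ℤ} (hgen : Gen (n := n) ℳ p d) {z : Ch Pol n p M}
    (hd : ∀ c, ev z c ∈ ℳ d) (hz : ∀ a' (h : p = a' + 1), ι xs (h ▸ z : Ch Pol n (a' + 1) M) = 0) :
    ∃ u : Ch Pol n (p + 1) M, ι xs u = z := by
  let f : M →ₗ[Pol] ((Fin 0 → Fin n) → M) := LinearMap.pi fun _ => LinearMap.id
  obtain ⟨u, -, hu⟩ := exists_boundary hgen p 0 le_rfl (f.compAlternatingMap z)
    (fun c s => s.elim0) (fun c _ => hd c) (fun a' h => by
      subst h
      show ι xs (f.compAlternatingMap z) = 0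
      rw [ι_comp, show ι xs z = 0 from hz a' rfl]
      exact ext_ev fun c => map_zero f)
  refine ⟨(LinearMap.proj Fin.elim0).compAlternatingMap u, ?_⟩
  rw [ι_comp, hu]
  rfl

end KoszulLinSyz1
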