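import Mathlib
import Groth.Agent.Lib.KoszulLinSyz1.Lift
import Groth.Agent.Lib.GrSyz.Unique

/-!
# Vanishing of a graded Betti number
-/

namespace KoszulLinSyz1

open MvPolynomial GrothLib

universe u

variable {k : Type u} [Field k] {n : ℕ}

local notation "Pol" => MvPolynomial (Fin n) k

theorem fc_X_smul {m : ℕ} (deg : Fin m → ℤ) (g : ℤ) (v : Fin n) (y : Fin m → Pol) :
    GrothLib.GrSyz.fc deg (g + 1) ((X v : Pol) • y) = (X v : Pol) • GrothLib.GrSyz.fc deg g y := by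
  funext b
  have hX : (X v : Pol) ∈ _root_.GrSyz.stdGr k (Fin n) 1 := MvPolynomial.isWeightedHomogeneous_X _ _ v
  rw [GrothLib.GrSyz.fc_apply, Pi.smul_apply, Pi.smul_apply, GrothLib.GrSyz.fc_apply, smul_eq_mul, smul_eq_mul,
    GrothLib.GrSyz.pr_mul hX, show g + 1 - deg b - 1 = g - deg b by ring]

/-- The component operator on chains. -/
theorem exists_component {a m : ℕ} (deg : Fin m → ℤ) (g : ℤ) (w : Ch Pol n (a + 1) (Fin m → Pol))
    {y : Ch Pol n a (Fin m → Pol)} (hw : ι xs w = y)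
    (hy : ∀ c, GrothLib.GrSyz.FreeHom deg (g + 1) (ev y c)) :
    ∃ w', ι xs w' = y ∧ ∀ c, GrothLib.GrSyz.FreeHom deg g (ev w' c) := by
  obtain ⟨w', hw'⟩ := exists_mapVal (S := Pol) (GrothLib.GrSyz.fc (k := k) deg g).toAddMonoidHom w
  refine ⟨w', ext_ev fun c => ?_, fun c => by rw [hw']; exact GrothLib.GrSyz.freeHom_fc _ _ _⟩
  have h := congrArg (fun y => GrothLib.GrSyz.fc deg (g + 1) (ev y c)) hw
  simp only [GrothLib.GrSyz.fc_of_freeHom deg (hy c)] at h
  rw [← h, ev_ι, ev_ι, map_sum]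
  refine Finset.sum_congr rfl fun v _ => ?_
  rw [hw', LinearMap.toAddMonoidHom_coe]
  exact (fc_X_smul deg g v _).symm

theorem exists_X_sum {m : ℕ} {y : Fin m → Pol} (hy : ∀ b, constantCoeff (y b) = 0) :
    ∃ q : Fin n → Fin m → Pol, y = ∑ v, (X v : Pol) • q v := by
  have h0 : ∀ b, y b ∈ Ideal.span (Set.range (X : Fin n → Pol)) := fun b => by
    rw [show Ideal.span (Set.range (X : Fin n → Pol)) = MvPolynomial.idealOfVars (Fin n) k from rfl,
      ← pow_one (MvPolynomial.idealOfVars (Fin n) k), MvPolynomial.mem_pow_idealOfVars_iff]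
    intro d hd
    rw [Nat.one_le_iff_ne_zero]
    intro hd0
    rw [Finsupp.degree_eq_zero_iff] at hd0
    rw [MvPolynomial.mem_support_iff] at hd
    exact hd (by rw [hd0]; exact hy b)
  choose q hq using fun b => Ideal.mem_span_range_iff_exists_fun.1 (h0 b)
  refine ⟨fun v b => q b v, funext fun b => ?_⟩
  rw [Finset.sum_apply, ← hq b]
  exact Finset.sum_congr rfl fun v _ => mul_comm _ _

variable {M : Type u} [AddCommGroup M] [Module k M] [Module (MvPolynomial (Fin n) k) M]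
  [IsScalarTower k (MvPolynomial (Fin n) k) M]
  {ℳ : ℤ → Submodule k M} [DirectSum.Decomposition ℳ]
  [SetLike.GradedSMul (_root_.GrSyz.stdGr k (Fin n)) ℳ]
  (F : _root_.GrSyz.FreeRes (_root_.GrSyz.stdGr k (Fin n)) ℳ)

theorem d_comp (r : ℕ) {a : ℕ} (v : Ch Pol n a (Fin (F.rk (r + 1 + 1)) → Pol)) :
    (F.dLin r).compAlternatingMap ((F.dLin (r + 1)).compAlternatingMap v) = 0 :=
  ext_ev fun _ => LinearMap.mem_ker.1 ((F.exact_succ r).ge ⟨_, rfl⟩)

theorem lift_ker (r : ℕ) {a : ℕ} (z : Ch Pol n a (Fin (F.rk (r + 1)) → Pol))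
    (hz : (F.dLin r).compAlternatingMap z = 0) :
    ∃ v : Ch Pol n a (Fin (F.rk (r + 1 + 1)) → Pol), (F.dLin (r + 1)).compAlternatingMap v = z :=
  exists_lift _ z fun c => (F.exact_succ r).le (LinearMap.mem_ker.2 (congrArg (fun y => ev y c) hz))

variable (hF : F.IsMinimal (_root_.GrSyz.irrel (_root_.GrSyz.stdGr k (Fin n))).toIdeal)
include hF

/-- The descending staircase. -/
theorem exists_stair {p : ℕ} (b₀ : Fin (F.rk p)) : ∀ l r, r + l = p →
    ∃ w : Ch Pol n l (Fin (F.rk r) → Pol),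
      (∀ c, GrothLib.GrSyz.FreeHom (F.deg r) (F.deg p b₀ - l) (ev w c)) ∧
      (∀ l', (h : l = l' + 1) → ∃ v : Ch Pol n l' (Fin (F.rk (r + 1)) → Pol),
        (F.dLin r).compAlternatingMap v = ι xs (h ▸ w : Ch Pol n (l' + 1) (Fin (F.rk r) → Pol))) ∧
      ¬ ∃ (u : Ch Pol n (l + 1) (Fin (F.rk r) → Pol)) (u₁ : Ch Pol n l (Fin (F.rk (r + 1)) → Pol)),
        w = ι xs u + (F.dLin r).compAlternatingMap u₁ := by
  classical
  intro l
  induction l with
  | zero =>
    intro r hr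
    obtain rfl : r = p := by omega
    refine ⟨AlternatingMap.constOfIsEmpty Pol _ (Fin 0) (Pi.single b₀ 1), fun c b => ?_,
      fun l' h => absurd h (by omega), ?_⟩
    · show (Pi.single b₀ 1 : Fin (F.rk r) → Pol) b ∈ _
      rcases eq_or_ne b b₀ with rfl | hb
      · rw [Pi.single_eq_same]
        simp only [Nat.cast_zero, sub_zero, sub_self]
        exact SetLike.one_mem_graded _
      · rw [Pi.single_eq_of_ne hb]; exact zero_mem _
    · rintro ⟨u, u₁, h⟩
      have h2 := congrArg (fun y : Ch Pol n 0 (Fin (F.rk r) → Pol) => constantCoeff (ev y Fin.elim0 b₀)) h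
      simp only [ev_add, Pi.add_apply, map_add] at h2
      have e1 : (ev (AlternatingMap.constOfIsEmpty Pol (Fin n → Pol) (Fin 0)
          (Pi.single b₀ (1 : Pol) : Fin (F.rk r) → Pol) : Ch Pol n 0 (Fin (F.rk r) → Pol))
        Fin.elim0 : Fin (F.rk r) → Pol) b₀ = 1 := Pi.single_eq_same _ _
      rw [e1, map_one, ev_ι, Finset.sum_apply, map_sum,
        Finset.sum_eq_zero (fun v _ => by rw [Pi.smul_apply, smul_eq_mul, map_mul, xs, constantCoeff_X, zero_mul]),
        zero_add] at h2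
      refine one_ne_zero (h2.trans ?_)
      exact GrothLib.GrSyz.cc_mulVec_eq_zero (fun a c => GrothLib.GrSyz.mem_irrel.1 (hF r a c)) _ b₀
  | succ l ih =>
    intro r hr
    obtain ⟨w, hhom, hbd, hnot⟩ := ih (r + 1) (by omega)
    set y := (F.dLin r).compAlternatingMap w with hy
    have hyd : ∀ c, GrothLib.GrSyz.FreeHom (F.deg r) (F.deg p b₀ - l) (ev y c) := fun c =>
      GrothLib.GrSyz.freeHom_mulVec _ (F.d_mem r) (hhom c)
    obtain ⟨w₁, hw₁⟩ : ∃ w₁ : Ch Pol n (l + 1) (Fin (F.rk r) → Pol), ι xs w₁ = y := by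
      cases l with
      | zero =>
        obtain ⟨q, hq⟩ := exists_X_sum (y := ev y Fin.elim0) fun b =>
          GrothLib.GrSyz.cc_mulVec_eq_zero (fun a c => GrothLib.GrSyz.mem_irrel.1 (hF r a c)) _ b
        refine ⟨∑ v, wed v (AlternatingMap.constOfIsEmpty Pol _ (Fin 0) (q v)), ?_⟩
        rw [ι_sum]
        refine ext_ev fun c => ?_
        rw [ev_sum, show c = Fin.elim0 from funext fun i => i.elim0, hq]
        exact Finset.sum_congr rfl fun v _ => by rw [ι_wed_zero, ev_smul]; rfl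
      | succ l =>
        refine exact_free y ?_
        obtain ⟨v, hv⟩ := hbd l rfl
        rw [hy, ι_comp, ← hv, d_comp]
    obtain ⟨w', hw', hhom'⟩ := exists_component (F.deg r) (F.deg p b₀ - (l + 1 : ℕ)) w₁ hw₁ (fun c => by
      rw [show F.deg p b₀ - ((l + 1 : ℕ) : ℤ) + 1 = F.deg p b₀ - l by push_cast; ring]
      exact hyd c)
    refine ⟨w', hhom', fun l' h => ?_, ?_⟩
    · obtain rfl : l' = l := by omega
      exact ⟨w, hw'.symm⟩
    · rintro ⟨u, u₁, h⟩
      have h1 : y = (F.dLin r).compAlternatingMap (ι xs u₁) := by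
        rw [← hw', h, ι_add, ι_ι, zero_add, ι_comp]
      obtain ⟨u₂, hu₂⟩ := lift_ker F r (w - ι xs u₁) (ext_ev fun c => by
        show F.dLin r (ev w c - ev (ι xs u₁) c) = 0
        rw [map_sub, sub_eq_zero]
        exact congrArg (fun y => ev y c) h1)
      exact hnot ⟨u₁, u₂, by rw [hu₂]; abel⟩

theorem betti_eq_zero (p : ℕ) (j : ℤ) (hgen : Gen (n := n) ℳ p (j - p)) : F.betti p j = 0 := by
  classical
  rw [_root_.GrSyz.FreeRes.betti, Finset.card_eq_zero, Finset.filter_eq_empty_iff]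
  intro b₀ _ hb₀
  obtain ⟨w, hhom, hbd, hnot⟩ := exists_stair F hF b₀ p 0 (Nat.zero_add p)
  rw [hb₀] at hhom
  obtain ⟨u, hu⟩ := boundary_of_cycle hgen (z := F.augLin.compAlternatingMap w) (fun c => by
    show F.augLin (ev w c) ∈ ℳ (j - p)
    rw [Fintype.linearCombination_apply]
    refine Submodule.sum_mem _ fun b _ => ?_
    have := SetLike.GradedSMul.smul_mem (A := _root_.GrSyz.stdGr k (Fin n)) (B := ℳ) (hhom c b) (F.aug_mem b)
    rw [show (j - p - F.deg 0 b) +ᵥ F.deg 0 b = j - p by rw [vadd_eq_add]; ring] at this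
    exact this) (fun a' h => by
    subst h
    obtain ⟨v, hv⟩ := hbd a' rfl
    show ι xs (F.augLin.compAlternatingMap w) = 0
    rw [ι_comp, ← hv]
    exact ext_ev fun _ => LinearMap.mem_ker.1 (F.exact_zero.ge ⟨_, rfl⟩))
  obtain ⟨ũ, hũ⟩ := exists_lift F.augLin u fun c => F.aug_surjective _
  have hk : ∀ c, ev (w - ι xs ũ) c ∈ LinearMap.range (F.dLin 0) := fun c => F.exact_zero.le (by
    rw [LinearMap.mem_ker, ev_sub, map_sub, sub_eq_zero]
    have e : F.augLin.compAlternatingMap w = F.augLin.compAlternatingMap (ι xs ũ) := by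
      rw [← hu, ← hũ, ι_comp]
    exact congrArg (fun y => ev y c) e)
  obtain ⟨u₁, hu₁⟩ := exists_lift (F.dLin 0) (w - ι xs ũ) hk
  exact hnot ⟨ũ, u₁, by rw [hu₁]; abel⟩

end KoszulLinSyz1
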